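import Cfsg.Agent.H505.B57.Sys
import Cfsg.Agent.H793.SecFree
import Cfsg.Agent.H486.B57.Col
import Cfsg.Agent.H870.B57.Wr

/-!
# S5717, task C1: affine primitive groups (helper505)

`aff_of` : the statement `aff` of the plan from the statements `col` (A1) and `wr` (A2); `aff` : the statement of the plan.
-/

set_option autoImplicit false
set_option linter.style.haveILetI false

open Subgroup

namespace Cfsg.Agent.H505.B57

open Cfsg Cfsg.Agent.H830.B57

/-- the statement of A1 -/
def Col : Prop := ∀ (b c : ℕ) (_ : 2 * b + 2 ≤ c) (K Ω : Type) [Group K] [Finite K] [MulAction K Ω]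
    [Finite Ω] [Nonempty Ω] (_ : MulAction.IsPretransitive K Ω)
    (_ : ∀ (L Δ : Type) [Group L] [Finite L] [MulAction L Δ] [Finite Δ] (f : L →* K),
      Function.Injective f → MulAction.IsPreprimitive L Δ → Nontrivial Δ →
      Nat.card Δ ≤ Nat.card Ω → BaseLE L Δ b),
    ∃ F : Fin c → Ω → Fin c, ∀ (i j : Fin c) (g : K), (∀ x : Ω, F i (g • x) = F j x) →
      i = j ∧ ∀ x : Ω, g • x = x

/-- the statement of A2 -/
def Wr : Prop := ∀ {G I X Ω : Type} [Group G] [MulAction G I] [MulAction G X] [MulAction G Ω] [Finite I]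
    [Finite X] (π : X → I) (_ : ∀ (g : G) (x : X), π (g • x) = g • π x) (ev : Ω → I → X)
    (_ : ∀ ω i, π (ev ω i) = i)
    (_ : ∀ s : I → X, (∀ i, π (s i) = i) → ∃ ω, ev ω = s) (_ : Function.Injective ev)
    (_ : ∀ (g : G) (ω : Ω) (i : I), ev (g • ω) (g • i) = g • ev ω i) (_ : MulAction.IsPretransitive G I)
    (i0 : I) (b : ℕ) (B : Finset X) (_ : ∀ x ∈ B, π x = i0) (_ : B.card ≤ b)
    (_ : ∀ g : G, g • i0 = i0 → (∀ x ∈ B, g • x = x) → ∀ x : X, π x = i0 → g • x = x)
    (_ : ∃ x y : X, x ≠ y ∧ π x = i0 ∧ π y = i0) (c : ℕ) (F : I → Fin c)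
    (_ : ∀ g : G, (∀ i : I, F (g • i) = F i) → ∀ i : I, g • i = i),
    BaseLE G Ω (b + Nat.clog 2 c)

section

variable {p : ℕ} [Fact p.Prime] {V : Type} [AddCommGroup V] [Module (ZMod p) V]
variable {K : Type} [Group K] {ρ : K →* (V ≃ₗ[ZMod p] V)}

theorem not_involves_range {d : ℕ} (hG : ¬ Cfsg.Involves (alternatingGroup (Fin d)) K)
    (W : Submodule (ZMod p) V) : ¬ Cfsg.Involves (alternatingGroup (Fin d)) (res ρ W).range := by
  intro h
  apply hG
  rw [H793.involves_lib_iff] at h ⊢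
  exact Lib.Involves.of_subgroup (Lib.Involves.trans
    (Lib.Involves.of_surjective (res ρ W).rangeRestrict (res ρ W).rangeRestrict_surjective) h)

/-- **The linear part.** -/
theorem lin_case (hcol : Col) (hwr : Wr) (d b1 b : ℕ) (hL : LinPrim d b1) [Finite V] [Finite K]
    (hirr : Irr ρ) (hV : ∃ v : V, v ≠ 0) (hG : ¬ Cfsg.Involves (alternatingGroup (Fin d)) K)
    (ih : ∀ (L Δ : Type) [Group L] [Finite L] [MulAction L Δ] [Finite Δ] (f : L →* K),
      Function.Injective f → MulAction.IsPreprimitive L Δ → Nontrivial Δ →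
      Nat.card Δ < Nat.card V → BaseLE L Δ b) :
    ∃ B : Finset V, B.card ≤ b1 + Nat.clog 2 (2 * b + 2) ∧ ∀ k : K, (∀ v ∈ B, ρ k v = v) → ∀ v, ρ k v = v := by
  classical
  have hfin : Finite (Submodule (ZMod p) V) :=
    Finite.of_injective (fun W : Submodule (ZMod p) V => (W : Set V)) SetLike.coe_injective
  -- the maximal system
  have hne : Nonempty {S : Set (Submodule (ZMod p) V) // Sys ρ S} := ⟨⟨_, sys_top hV⟩⟩
  obtain ⟨⟨S, hS⟩, hmax⟩ := Finite.exists_max (fun S : {S : Set (Submodule (ZMod p) V) // Sys ρ S} => S.1.ncard)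
  have hmax' : ∀ S' : Set (Submodule (ZMod p) V), Sys ρ S' → S'.ncard ≤ S.ncard := fun S' h => hmax ⟨S', h⟩
  have := Fintype.ofFinite S
  obtain ⟨W₀, h₀⟩ : S.Nonempty := by
    rw [Set.nonempty_iff_ne_empty]
    rintro rfl
    have h1 := hS.top
    rw [sSup_empty] at h1
    obtain ⟨v, hv⟩ := hV
    have h2 : v ∈ (⊤ : Submodule (ZMod p) V) := trivial
    rw [← h1] at h2
    exact hv ((Submodule.mem_bot _).1 h2)
  have hW0 : W₀ ≠ ⊥ := fun h1 => hS.bot (h1 ▸ h₀)
  have hprim := primLin hS hirr hmax' h₀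
  obtain ⟨B, hBc, hB⟩ := hL p W₀ _ hprim (not_involves_range hG W₀)
  -- the actions
  letI : MulAction K S :=
    { smul := fun k W => ⟨tr ρ k W.1, hS.inv k _ W.2⟩
      one_smul := fun W => Subtype.ext (tr_one ρ W.1)
      mul_smul := fun k l W => Subtype.ext (tr_mul ρ k l W.1) }
  letI : MulAction K V :=
    { smul := fun k v => ρ k v
      one_smul := fun v => by
        show ρ 1 v = v
        rw [map_one]
        rfl
      mul_smul := fun k l v => by
        show ρ (k * l) v = ρ k (ρ l v)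
        rw [map_mul]
        rfl }
  let X : Type := {q : S × V // q.2 ∈ q.1.1}
  letI : MulAction K X :=
    { smul := fun k q => ⟨(k • q.1.1, k • q.1.2), mem_tr ρ q.2⟩
      one_smul := fun q => Subtype.ext (Prod.ext (one_smul K q.1.1) (one_smul K q.1.2))
      mul_smul := fun k l q => Subtype.ext (Prod.ext (mul_smul k l q.1.1) (mul_smul k l q.1.2)) }
  have hsS : ∀ (k : K) (W : S), (k • W : S).1 = tr ρ k W.1 := fun _ _ => rfl
  have hsV : ∀ (k : K) (v : V), k • v = ρ k v := fun _ _ => rfl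
  have hX1 : ∀ (k : K) (q : X), (k • q).1.1 = k • q.1.1 := fun _ _ => rfl
  have hX2 : ∀ (k : K) (q : X), (k • q).1.2 = ρ k q.1.2 := fun _ _ => rfl
  have htr : MulAction.IsPretransitive K S := by
    refine ⟨fun W W' => ?_⟩
    obtain ⟨k, hk⟩ := hS.trans hirr W.2 W'.2
    exact ⟨k, Subtype.ext hk⟩
  -- the number of blocks
  have hcard : Nat.card S < Nat.card V := by
    have h1 : ∀ W : S, ∃ v : V, v ∈ W.1 ∧ v ≠ 0 := fun W =>
      Submodule.exists_mem_ne_zero_of_ne_bot fun h => hS.bot (h ▸ W.2)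
    choose v hv hv0 using h1
    have hinj : Function.Injective v := by
      intro W W' h
      refine Subtype.ext (hS.eq_of_le W.2 W'.2 (U := Submodule.span (ZMod p) {v W}) ?_ ?_ ?_)
      · rw [Ne, Submodule.span_singleton_eq_bot]
        exact hv0 W
      · rw [Submodule.span_singleton_le_iff_mem]
        exact hv W
      · rw [Submodule.span_singleton_le_iff_mem, h]
        exact hv W'
    have := Fintype.ofFinite V
    rw [Nat.card_eq_fintype_card, Nat.card_eq_fintype_card]
    refine Fintype.card_lt_of_injective_of_notMem v hinj (b := 0) ?_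
    rintro ⟨W, hW⟩
    exact hv0 W hW
  have : Nonempty S := ⟨⟨W₀, h₀⟩⟩
  obtain ⟨F, hF⟩ := hcol b (2 * b + 2) le_rfl K S htr (fun L Δ _ _ _ _ f hf h1 h2 h3 =>
    ih L Δ f hf h1 h2 (lt_of_le_of_lt h3 hcard))
  -- components
  choose comp hcomp hsum using fun v => hS.exists_sum v
  have hcu : ∀ (v : V) (x : S → V), (∀ W, x W ∈ W.1) → ∑ W, x W = v → comp v = x := fun v x hx h =>
    hS.sum_unique (hcomp v) hx ((hsum v).trans h.symm)
  have hceq : ∀ (k : K) (v : V) (W : S), comp (k • v) (k • W) = ρ k (comp v W) := by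
    intro k v W
    have h1 := hcu (k • v) (fun W' => ρ k (comp v (k⁻¹ • W'))) (fun W' => by
      have h2 := mem_tr ρ (k := k) (hcomp v (k⁻¹ • W'))
      rw [hsS, tr_tr_inv] at h2
      exact h2) (by
      rw [← map_sum, hsV]
      congr 1
      rw [← hsum v]
      conv_lhs => rw [hsum v]
      exact (Fintype.sum_equiv (MulAction.toPerm k⁻¹) _ _ (fun W' => rfl)))
    rw [h1]
    show ρ k (comp v (k⁻¹ • k • W)) = _
    rw [inv_smul_smul]
  have key := hwr (G := K) (I := S) (X := X) (Ω := V) (fun q => q.1.1) (fun _ _ => rfl)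
    (fun v W => ⟨(W, comp v W), hcomp v W⟩) (fun _ _ => rfl)
    (fun s hs => ⟨∑ W, (s W).1.2, by
      funext W
      have h1 : comp (∑ W, (s W).1.2) = fun W => (s W).1.2 := hcu _ _ (fun W => by
        have h2 := (s W).2
        rw [hs W] at h2
        exact h2) rfl
      refine Subtype.ext (Prod.ext (hs W).symm ?_)
      show comp (∑ W, (s W).1.2) W = (s W).1.2
      rw [h1]⟩)
    (fun v v' h => by
      have h1 : comp v = comp v' := by
        funext W
        exact congrArg (fun q : X => q.1.2) (congrFun h W)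
      rw [← hsum v, h1, hsum v'])
    (fun k v W => Subtype.ext (Prod.ext rfl (hceq k v W))) htr ⟨W₀, h₀⟩ b1
    (B.image fun w : W₀ => (⟨(⟨W₀, h₀⟩, w), w.2⟩ : X))
    (fun x hx => by
      obtain ⟨w, -, rfl⟩ := Finset.mem_image.1 hx
      rfl)
    (Finset.card_image_le.trans hBc)
    (fun k hk hfix x hx => by
      have hk' : tr ρ k W₀ = W₀ := congrArg Subtype.val hk
      have h1 : res ρ W₀ ⟨k, hk'⟩ = 1 := hB _ ⟨_, rfl⟩ fun w hw => by
        have h2 := hfix _ (Finset.mem_image_of_mem _ hw)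
        have h3 : ρ k (w : V) = w := congrArg (fun q : X => q.1.2) h2
        exact Subtype.ext h3
      have h4 : x.1.2 ∈ W₀ := by
        have h5 := x.2
        rw [hx] at h5
        exact h5
      refine Subtype.ext (Prod.ext ?_ ?_)
      · rw [hX1, hx]
        exact hk
      · rw [hX2]
        have h5 : res ρ W₀ ⟨k, hk'⟩ ⟨x.1.2, h4⟩ = ⟨x.1.2, h4⟩ := by rw [h1]; rfl
        exact congrArg Subtype.val h5)
    (by
      obtain ⟨v, hv, hv0⟩ := Submodule.exists_mem_ne_zero_of_ne_bot hW0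
      refine ⟨⟨(⟨W₀, h₀⟩, v), hv⟩, ⟨(⟨W₀, h₀⟩, 0), W₀.zero_mem⟩, fun h => hv0 ?_, rfl, rfl⟩
      exact congrArg (fun q : X => q.1.2) h)
    (2 * b + 2) (F 0) (fun k hk => (hF 0 0 k hk).2)
  exact key

end

/-! ### the affine group -/

section affine

variable {V : Type} [AddCommGroup V] {K : Type} [Group K]

/-- additive automorphisms are linear over the prime field -/
def rhoOf (p : ℕ) [Module (ZMod p) V] (φ : K → V ≃+ V) (h1 : ∀ v, φ 1 v = v)
    (hm : ∀ a b v, φ (a * b) v = φ a (φ b v)) : K →* (V ≃ₗ[ZMod p] V) where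
  toFun k := { φ k with map_smul' := fun c v => ZMod.map_smul (φ k) c v }
  map_one' := by
    ext v
    exact h1 v
  map_mul' a b := by
    ext v
    exact hm a b v

/-- the linear part in the language of groups -/
theorem add_case (hcol : Col) (hwr : Wr) (d b1 b : ℕ) (hL : LinPrim d b1) [Finite V] [Nontrivial V] [Finite K]
    (φ : K → V ≃+ V) (hφ1 : ∀ v, φ 1 v = v) (hφm : ∀ a b v, φ (a * b) v = φ a (φ b v)) (hirr : ∀ M : AddSubgroup V, (∀ k, ∀ x ∈ M, φ k x ∈ M) → M = ⊥ ∨ M = ⊤)
    (hG : ¬ Cfsg.Involves (alternatingGroup (Fin d)) K)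
    (ih : ∀ (L Δ : Type) [Group L] [Finite L] [MulAction L Δ] [Finite Δ] (f : L →* K),
      Function.Injective f → MulAction.IsPreprimitive L Δ → Nontrivial Δ →
      Nat.card Δ < Nat.card V → BaseLE L Δ b) :
    ∃ B : Finset V, B.card ≤ b1 + Nat.clog 2 (2 * b + 2) ∧ ∀ k : K, (∀ v ∈ B, φ k v = v) → ∀ v, φ k v = v := by
  classical
  -- the prime
  have hN1 : Nat.card V ≠ 1 := Finite.one_lt_card.ne'
  obtain ⟨p, hpp, hpd⟩ := Nat.exists_prime_and_dvd hN1
  have := Fact.mk hpp
  have hexp : ∀ x : V, p • x = 0 := by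
    let M : AddSubgroup V :=
      { carrier := {x | p • x = 0}
        zero_mem' := nsmul_zero p
        add_mem' := fun {a b} ha hb => by
          have ha' : p • a = 0 := ha
          have hb' : p • b = 0 := hb
          show p • (a + b) = 0
          rw [nsmul_add, ha', hb', add_zero]
        neg_mem' := fun {a} ha => by
          have ha' : p • a = 0 := ha
          show p • (-a) = 0
          rw [smul_neg, ha', neg_zero] }
    rcases hirr M (fun k x hx => by
      have hx' : p • x = 0 := hx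
      show p • (φ k x) = 0
      rw [← map_nsmul, hx', map_zero]) with h | h
    · exfalso
      obtain ⟨x, hx⟩ := exists_prime_addOrderOf_dvd_card' p hpd
      have h1 : x ∈ M := by
        show p • x = 0
        rw [← hx, addOrderOf_nsmul_eq_zero]
      rw [h, AddSubgroup.mem_bot] at h1
      rw [h1, addOrderOf_zero] at hx
      exact hpp.one_lt.ne hx
    · intro x
      have h1 : x ∈ M := by rw [h]; trivial
      exact h1
  obtain ⟨hmod⟩ : Nonempty (Module (ZMod p) V) := ⟨AddCommGroup.zmodModule hexp⟩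
  have hirr' : Irr (rhoOf p φ hφ1 hφm) := by
    intro W hW
    rcases hirr W.toAddSubgroup (fun k x hx => hW k x hx) with h | h
    · left
      rw [eq_bot_iff]
      intro v hv
      have h1 : v ∈ W.toAddSubgroup := hv
      rw [h, AddSubgroup.mem_bot] at h1
      rw [h1]
      exact Submodule.zero_mem _
    · right
      rw [eq_top_iff]
      intro v _
      have h1 : v ∈ W.toAddSubgroup := by rw [h]; trivial
      exact h1
  obtain ⟨B, hBc, hB⟩ := lin_case (ρ := rhoOf p φ hφ1 hφm) hcol hwr d b1 b hL hirr' (exists_ne 0) hG ih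
  exact ⟨B, hBc, hB⟩

/-- the same for multiplicative groups -/
theorem grp_case {A : Type} [CommGroup A] (hcol : Col) (hwr : Wr) (d b1 b : ℕ) (hL : LinPrim d b1) [Finite A]
    [Nontrivial A] [Finite K] (φ : K →* MulAut A)
    (hirr : ∀ M : Subgroup A, (∀ k, ∀ x ∈ M, φ k x ∈ M) → M = ⊥ ∨ M = ⊤)
    (hG : ¬ Cfsg.Involves (alternatingGroup (Fin d)) K)
    (ih : ∀ (L Δ : Type) [Group L] [Finite L] [MulAction L Δ] [Finite Δ] (f : L →* K),
      Function.Injective f → MulAction.IsPreprimitive L Δ → Nontrivial Δ →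
      Nat.card Δ < Nat.card A → BaseLE L Δ b) :
    ∃ B : Finset A, B.card ≤ b1 + Nat.clog 2 (2 * b + 2) ∧ ∀ k : K, (∀ v ∈ B, φ k v = v) → ∀ v, φ k v = v := by
  classical
  have hfin : Finite (Additive A) := Finite.of_equiv A Additive.ofMul
  have hnt : Nontrivial (Additive A) := Additive.ofMul.symm.nontrivial
  have hcd : Nat.card (Additive A) = Nat.card A := Nat.card_congr Additive.toMul
  let ψ : K → Additive A ≃+ Additive A := fun k => MulEquiv.toAdditive (φ k)
  have hψ : ∀ k (x : A), ψ k (Additive.ofMul x) = Additive.ofMul (φ k x) := fun _ _ => rfl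
  obtain ⟨B, hBc, hB⟩ := add_case hcol hwr d b1 b hL ψ (fun v => by
    show Additive.ofMul (φ 1 v.toMul) = v
    rw [map_one]
    rfl) (fun a b v => by
    show Additive.ofMul (φ (a * b) v.toMul) = Additive.ofMul (φ a (φ b v.toMul))
    rw [map_mul]
    rfl) (fun M hM => by
    rcases hirr (AddSubgroup.toSubgroup' M) (fun k x hx => hM k _ hx) with h | h
    · left
      rw [eq_bot_iff]
      intro v hv
      obtain ⟨x, rfl⟩ := Additive.ofMul.surjective v
      have h1 : x ∈ AddSubgroup.toSubgroup' M := hv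
      rw [h, Subgroup.mem_bot] at h1
      rw [h1, ofMul_one, AddSubgroup.mem_bot]
    · right
      rw [eq_top_iff]
      intro v _
      obtain ⟨x, rfl⟩ := Additive.ofMul.surjective v
      have h1 : x ∈ AddSubgroup.toSubgroup' M := by rw [h]; trivial
      exact h1) hG (fun L Δ _ _ _ _ f hf h1 h2 h3 => ih L Δ f hf h1 h2 (by rw [← hcd]; exact h3))
  refine ⟨B.image Additive.toMul, Finset.card_image_le.trans hBc, fun k hk x => ?_⟩
  have h1 := hB k (fun v hv => by
    obtain ⟨y, rfl⟩ := Additive.ofMul.surjective v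
    rw [hψ, hk y (Finset.mem_image.2 ⟨_, hv, rfl⟩)]) (Additive.ofMul x)
  rw [hψ] at h1
  exact Additive.ofMul.injective h1

end affine

/-- **C1** from A1 and A2. -/
theorem aff_of (hcol : Col) (hwr : Wr) (d b1 b : ℕ) (hL : LinPrim d b1)
    (G Ω : Type) [Group G] [Finite G] [MulAction G Ω] [FaithfulSMul G Ω] [Finite Ω]
    (hp : MulAction.IsPreprimitive G Ω) (hG : ¬ Cfsg.Involves (alternatingGroup (Fin d)) G)
    (N : Subgroup G) [N.Normal] (hN : N ≠ ⊥)
    (hmin : ∀ M : Subgroup G, M.Normal → M ≤ N → M = ⊥ ∨ M = N)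
    (hab : ∀ x ∈ N, ∀ y ∈ N, Commute x y)
    (ih : ∀ (L Δ : Type) [Group L] [Finite L] [MulAction L Δ] [Finite Δ] (f : L →* G),
      Function.Injective f → MulAction.IsPreprimitive L Δ → Nontrivial Δ →
      Nat.card Δ < Nat.card Ω → BaseLE L Δ b) :
    BaseLE G Ω (1 + b1 + Nat.clog 2 (2 * b + 2)) := by
  classical
  -- `N` is transitive and semiregular
  have htr : MulAction.IsPretransitive N Ω := by
    refine MulAction.IsQuasiPreprimitive.isPretransitive_of_normal (G := G) (X := Ω) (N := N) fun h => hN ?_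
    rw [eq_bot_iff]
    intro n hn
    rw [Subgroup.mem_bot]
    refine FaithfulSMul.eq_of_smul_eq_smul (α := Ω) fun x => ?_
    have h1 : x ∈ MulAction.fixedPoints N Ω := by rw [h]; trivial
    rw [one_smul]
    exact h1 ⟨n, hn⟩
  have hne : Nonempty Ω := by
    by_contra hne
    apply hN
    rw [eq_bot_iff]
    intro n _
    rw [Subgroup.mem_bot]
    exact FaithfulSMul.eq_of_smul_eq_smul (α := Ω) fun x => (hne ⟨x⟩).elim
  obtain ⟨ω⟩ := hne
  have hreg : ∀ n ∈ N, n • ω = ω → n = 1 := by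
    intro n hn h
    refine FaithfulSMul.eq_of_smul_eq_smul (α := Ω) fun x => ?_
    obtain ⟨m, rfl⟩ := MulAction.exists_smul_eq N ω x
    have h1 : n • ((m : G) • ω) = (m : G) • ω := by
      rw [← mul_smul, (hab n hn m m.2).eq, mul_smul, h]
    rw [one_smul]
    exact h1
  letI : CommGroup N := { (inferInstance : Group N) with
    mul_comm := fun x y => Subtype.ext (hab x x.2 y y.2).eq }
  let K : Subgroup G := MulAction.stabilizer G ω
  have : Nontrivial N := (Subgroup.nontrivial_iff_ne_bot N).2 hN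
  have hirr : ∀ M : Subgroup N, (∀ k : K, ∀ x ∈ M, (MulAut.conjNormal.comp K.subtype) k x ∈ M) → M = ⊥ ∨ M = ⊤ := by
    intro M hM
    have hMn : (M.map N.subtype).Normal := by
      refine ⟨?_⟩
      rintro _ ⟨x, hx, rfl⟩ g
      obtain ⟨n, hn⟩ := MulAction.exists_smul_eq N ω (g • ω)
      have hk : (n : G)⁻¹ * g ∈ K := by
        rw [MulAction.mem_stabilizer_iff, mul_smul, inv_smul_eq_iff]
        exact hn.symm
      have h1 := hM ⟨_, hk⟩ x hx
      refine ⟨_, h1, ?_⟩
      show (MulAut.conjNormal ((n : G)⁻¹ * g) x : G) = g * x * g⁻¹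
      rw [MulAut.conjNormal_apply]
      have h3 := hab (g * x * g⁻¹) (Subgroup.Normal.conj_mem ‹N.Normal› (x : G) x.2 g) n n.2
      calc (n : G)⁻¹ * g * x * ((n : G)⁻¹ * g)⁻¹ = (n : G)⁻¹ * ((g * x * g⁻¹) * n) := by group
        _ = (n : G)⁻¹ * (n * (g * x * g⁻¹)) := by rw [h3.eq]
        _ = g * x * g⁻¹ := by group
    rcases hmin _ hMn (Subgroup.map_subtype_le M) with h | h
    · left
      exact (Subgroup.map_eq_bot_iff_of_injective M N.subtype_injective).1 h
    · right
      rw [eq_top_iff]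
      intro x _
      have h1 : (x : G) ∈ M.map N.subtype := by rw [h]; exact x.2
      obtain ⟨y, hy, hxy⟩ := h1
      have h2 : y = x := Subtype.ext hxy
      rwa [← h2]
  have hcardV : Nat.card N = Nat.card Ω := by
    refine Nat.card_eq_of_bijective (fun v : N => (v : G) • ω) ⟨?_, ?_⟩
    · intro v w h
      have h' : (v : G) • ω = (w : G) • ω := h
      have h1 : (w : G)⁻¹ * (v : G) = 1 :=
        hreg _ (N.mul_mem (N.inv_mem w.2) v.2) (by rw [mul_smul, h', inv_smul_smul])
      exact Subtype.ext (inv_mul_eq_one.1 h1).symm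
    · intro x
      obtain ⟨n, hn⟩ := MulAction.exists_smul_eq N ω x
      exact ⟨n, hn⟩
  have hGK : ¬ Cfsg.Involves (alternatingGroup (Fin d)) K := by
    intro h
    apply hG
    rw [H793.involves_lib_iff] at h ⊢
    exact Lib.Involves.of_subgroup h
  obtain ⟨B, hBc, hB⟩ := grp_case hcol hwr d b1 b hL (MulAut.conjNormal.comp K.subtype) hirr hGK
    (fun L Δ _ _ _ _ f hf h1 h2 h3 =>
      ih L Δ (K.subtype.comp f) (K.subtype_injective.comp hf) h1 h2 (by rw [← hcardV]; exact h3))
  refine ⟨insert ω (B.image fun v : N => (v : G) • ω), ?_, fun g hg => ?_⟩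
  · refine (Finset.card_insert_le _ _).trans ?_
    have h1 := (Finset.card_image_le (s := B) (f := fun v : N => (v : G) • ω))
    omega
  have hk : g ∈ K := hg ω (Finset.mem_insert_self _ _)
  have hgω : g • ω = ω := hk
  have hconj : ∀ n : N, g • ((n : G) • ω) = ((MulAut.conjNormal g n : N) : G) • ω := by
    intro n
    rw [MulAut.conjNormal_apply, mul_smul, mul_smul]
    conv_rhs => rw [← hgω]
    rw [inv_smul_smul]
  have h1 := hB ⟨g, hk⟩ (fun n hn => by
    have h2 := hg _ (Finset.mem_insert_of_mem (Finset.mem_image_of_mem _ hn))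
    have h3 : g • ((n : G) • ω) = (n : G) • ω := h2
    rw [hconj] at h3
    have h4 : (n : G)⁻¹ * ((MulAut.conjNormal g n : N) : G) = 1 :=
      hreg _ (N.mul_mem (N.inv_mem n.2) (MulAut.conjNormal g n : N).2) (by rw [mul_smul, h3, inv_smul_smul])
    exact Subtype.ext (inv_mul_eq_one.1 h4).symm)
  intro x
  obtain ⟨n, rfl⟩ := MulAction.exists_smul_eq N ω x
  have h3 : MulAut.conjNormal g n = n := h1 n
  show g • ((n : G) • ω) = (n : G) • ω
  rw [hconj, h3]

/-- **C1: affine primitive groups.** -/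
theorem aff (d b1 b : ℕ) (hL : LinPrim d b1)
    (G Ω : Type) [Group G] [Finite G] [MulAction G Ω] [FaithfulSMul G Ω] [Finite Ω]
    (hp : MulAction.IsPreprimitive G Ω) (hG : ¬ Cfsg.Involves (alternatingGroup (Fin d)) G)
    (N : Subgroup G) [N.Normal] (hN : N ≠ ⊥)
    (hmin : ∀ M : Subgroup G, M.Normal → M ≤ N → M = ⊥ ∨ M = N)
    (hab : ∀ x ∈ N, ∀ y ∈ N, Commute x y)
    (ih : ∀ (L Δ : Type) [Group L] [Finite L] [MulAction L Δ] [Finite Δ] (f : L →* G),
      Function.Injective f → MulAction.IsPreprimitive L Δ → Nontrivial Δ →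
      Nat.card Δ < Nat.card Ω → BaseLE L Δ b) :
    BaseLE G Ω (1 + b1 + Nat.clog 2 (2 * b + 2)) :=
  aff_of Cfsg.Agent.H486.B57.col Cfsg.Agent.H870.B57.wr d b1 b hL G Ω hp hG N hN hmin hab ih

end Cfsg.Agent.H505.B57
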